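import Mathlib.AlgebraicGeometry.FunctionField
import Mathlib.AlgebraicGeometry.Noetherian
import Mathlib.RingTheory.IntegralClosure.IntegrallyClosed
import Mathlib.RingTheory.Localization.LocalizationLocalization
import Mathlib.Topology.Separation.Basic

/-!
Generalizations of normal points are normal; sections on normal integral schemes.
-/

universe u

open CategoryTheory AlgebraicGeometry TopologicalSpace

namespace Groth.Agent.VarGeom

/-- The local ring at a generalization is a localization of the local ring. -/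
theorem exists_isLocalization_stalkSpecializes {X : Scheme.{u}} {x z : X} (h : x ⤳ z) :
    ∃ S : Submonoid (X.presheaf.stalk z),
      @IsLocalization _ _ S (X.presheaf.stalk x) _ (X.presheaf.stalkSpecializes h).hom.toAlgebra := by
  obtain ⟨_, ⟨U, hU, rfl⟩, hzU, -⟩ :=
    X.isBasis_affineOpens.exists_subset_of_mem_open (Set.mem_univ z) isOpen_univ
  have hxU : x ∈ U := h.mem_open U.isOpen hzU
  letI : Algebra Γ(X, U) (X.presheaf.stalk z) :=
    TopCat.Presheaf.algebra_section_stalk X.presheaf ⟨z, hzU⟩
  letI : Algebra Γ(X, U) (X.presheaf.stalk x) :=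
    TopCat.Presheaf.algebra_section_stalk X.presheaf ⟨x, hxU⟩
  letI := (X.presheaf.stalkSpecializes h).hom.toAlgebra
  haveI : IsScalarTower Γ(X, U) (X.presheaf.stalk z) (X.presheaf.stalk x) := by
    apply IsScalarTower.of_algebraMap_eq'
    change _ = (X.presheaf.germ U z hzU ≫ X.presheaf.stalkSpecializes h).hom
    rw [X.presheaf.germ_stalkSpecializes]
    rfl
  haveI := hU.isLocalization_stalk ⟨z, hzU⟩
  haveI := hU.isLocalization_stalk ⟨x, hxU⟩
  have hle : (hU.primeIdealOf ⟨x, hxU⟩).asIdeal ≤ (hU.primeIdealOf ⟨z, hzU⟩).asIdeal := by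
    rw [PrimeSpectrum.asIdeal_le_asIdeal, PrimeSpectrum.le_iff_specializes]
    refine hU.fromSpec.isOpenEmbedding.isInducing.specializes_iff.1 ?_
    rw [hU.fromSpec_primeIdealOf, hU.fromSpec_primeIdealOf]
    exact h
  exact ⟨_, IsLocalization.isLocalization_of_submonoid_le (X.presheaf.stalk z) (X.presheaf.stalk x)
    (hU.primeIdealOf ⟨z, hzU⟩).asIdeal.primeCompl (hU.primeIdealOf ⟨x, hxU⟩).asIdeal.primeCompl
    (fun a ha hb => ha (hle hb))⟩

/-- A generalization of a normal point is normal. -/
theorem normalAt_of_specializes {X : Scheme.{u}} {x z : X} (h : x ⤳ z)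
    [IsDomain (X.presheaf.stalk z)] [IsIntegrallyClosed (X.presheaf.stalk z)] :
    IsDomain (X.presheaf.stalk x) ∧ IsIntegrallyClosed (X.presheaf.stalk x) := by
  obtain ⟨S, hS⟩ := exists_isLocalization_stalkSpecializes h
  letI := (X.presheaf.stalkSpecializes h).hom.toAlgebra
  have h0 : S ≤ nonZeroDivisors (X.presheaf.stalk z) := by
    refine le_nonZeroDivisors_of_noZeroDivisors fun h0 => ?_
    have hu := IsLocalization.map_units (X.presheaf.stalk x) (⟨0, h0⟩ : S)
    simp at hu
  exact ⟨IsLocalization.isDomain_of_le_nonZeroDivisors _ h0,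
    isIntegrallyClosed_of_isLocalization (X.presheaf.stalk x) S h0⟩

theorem normal_of_closedPoints (X : Scheme.{u}) [CompactSpace X]
    (h : ∀ x : X, IsClosed ({x} : Set X) →
      IsDomain (X.presheaf.stalk x) ∧ IsIntegrallyClosed (X.presheaf.stalk x)) (x : X) :
    IsDomain (X.presheaf.stalk x) ∧ IsIntegrallyClosed (X.presheaf.stalk x) := by
  obtain ⟨z, hz, hzc⟩ := IsClosed.exists_closed_singleton (isClosed_closure (s := ({x} : Set X)))
    ⟨x, subset_closure rfl⟩
  obtain ⟨h1, h2⟩ := h z hzc
  exact normalAt_of_specializes (specializes_iff_mem_closure.2 hz)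

/-- On an integral normal scheme, an element of the function field integral over the global
functions is a global function. -/
theorem exists_global_of_isIntegral {X : Scheme.{u}} [IsIntegral X]
    (hX : ∀ x : X, IsIntegrallyClosed (X.presheaf.stalk x))
    (c : X.functionField) [Nonempty (⊤ : X.Opens)]
    (hc : (X.germToFunctionField ⊤).hom.IsIntegralElem c) :
    ∃ s : Γ(X, ⊤), X.germToFunctionField ⊤ s = c := by
  have hgen : ∀ (V : X.Opens) (x : X), x ∈ V → genericPoint X ∈ V := fun V x hx =>
    ((genericPoint_spec X).mem_open_set_iff V.isOpen).2 ⟨x, trivial, hx⟩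
  have hloc : ∀ x : X, ∃ (V : X.Opens) (hx : x ∈ V) (s : Γ(X, V)),
      X.presheaf.germ V (genericPoint X) (hgen V x hx) s = c := by
    intro x
    obtain ⟨p, hp, hp0⟩ := hc
    have hi : _root_.IsIntegral (X.presheaf.stalk x) c := by
      refine ⟨p.map (X.presheaf.germ ⊤ x trivial).hom, hp.map _, ?_⟩
      rw [Polynomial.eval₂_map]
      have he : (algebraMap (X.presheaf.stalk x) X.functionField).comp
          (X.presheaf.germ ⊤ x trivial).hom = (X.germToFunctionField ⊤).hom :=
        RingHom.ext fun f => Scheme.algebraMap_germ_eq_germToFunctionField (X := X) (U := ⊤) (x := x) trivial f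
      rw [he]; exact hp0
    haveI := hX x
    obtain ⟨y, hy⟩ := IsIntegrallyClosed.isIntegral_iff.1 hi
    obtain ⟨V, hxV, s, rfl⟩ := X.presheaf.exists_germ_eq (x := x) y
    refine ⟨V, hxV, s, ?_⟩
    haveI : Nonempty V := ⟨⟨x, hxV⟩⟩
    rw [← hy, Scheme.algebraMap_germ_eq_germToFunctionField]
  choose V hxV s hs using hloc
  have hcompat : TopCat.Presheaf.IsCompatible X.presheaf V s := by
    intro i j
    have hg : genericPoint X ∈ V i ⊓ V j := ⟨hgen _ i (hxV i), hgen _ j (hxV j)⟩
    apply germ_injective_of_isIntegral X (genericPoint X) hg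
    rw [X.presheaf.germ_res_apply, X.presheaf.germ_res_apply, hs, hs]
  obtain ⟨g, hg, -⟩ := X.sheaf.existsUnique_gluing' V ⊤ (fun i => homOfLE le_top)
    (fun z _ => Opens.mem_iSup.2 ⟨z, hxV z⟩) s hcompat
  refine ⟨g, ?_⟩
  obtain ⟨x⟩ := (inferInstance : Nonempty (⊤ : X.Opens))
  rw [← hs x.1, ← hg x.1]
  exact (X.presheaf.germ_res_apply (homOfLE le_top) (genericPoint X) (hgen _ x.1 (hxV x.1)) g).symm

end Groth.Agent.VarGeom
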