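import Mathlib.AlgebraicGeometry.Morphisms.UniversallyOpen
import Mathlib.AlgebraicGeometry.AffineScheme
import Mathlib.AlgebraicGeometry.Cover.Open
import Mathlib.AlgebraicGeometry.Pullbacks
import Mathlib.RingTheory.Spectrum.Prime.Chevalley

/-!
Every morphism to the spectrum of a field is universally open.
-/

universe u

open CategoryTheory CategoryTheory.Limits AlgebraicGeometry

namespace Groth.Agent.VarGeom

theorem isOpenMap_fst_spec {k A B : Type u} [Field k] [CommRing A] [CommRing B]
    [Algebra k A] [Algebra k B] :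
    IsOpenMap (pullback.fst (Spec.map (CommRingCat.ofHom (algebraMap k A)))
      (Spec.map (CommRingCat.ofHom (algebraMap k B)))).base := by
  have h : pullback.fst (Spec.map (CommRingCat.ofHom (algebraMap k A)))
      (Spec.map (CommRingCat.ofHom (algebraMap k B))) =
      (pullbackSpecIso k A B).hom ≫ Spec.map (CommRingCat.ofHom (algebraMap A (TensorProduct k A B))) := by
    rw [← pullbackSpecIso_inv_fst', Iso.hom_inv_id_assoc]
  rw [h, Scheme.Hom.comp_base, TopCat.coe_comp]
  exact (PrimeSpectrum.isOpenMap_comap_algebraMap_tensorProduct_of_field).comp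
    (pullbackSpecIso k A B).hom.homeomorph.isOpenMap

theorem isOpenMap_fst_of_affine {k : Type u} [Field k] {R B : CommRingCat.{u}}
    (a : CommRingCat.of k ⟶ R) (b : CommRingCat.of k ⟶ B) :
    IsOpenMap (pullback.fst (Spec.map a) (Spec.map b)).base := by
  letI := a.hom.toAlgebra
  letI := b.hom.toAlgebra
  exact isOpenMap_fst_spec (k := k) (A := R) (B := B)

theorem isOpenMap_fst_of_affine' {k : Type u} [Field k] {R B : CommRingCat.{u}}
    (g : Spec R ⟶ Spec (CommRingCat.of k)) (b : CommRingCat.of k ⟶ B) :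
    IsOpenMap (pullback.fst g (Spec.map b)).base := by
  obtain ⟨a, rfl⟩ := Spec.map_surjective g
  exact isOpenMap_fst_of_affine a b

theorem isOpenMap_fst_of_affine_right {k : Type u} [Field k] {B : CommRingCat.{u}}
    (b : CommRingCat.of k ⟶ B) {Z : Scheme.{u}} (g : Z ⟶ Spec (CommRingCat.of k)) :
    IsOpenMap (pullback.fst g (Spec.map b)).base := by
  intro W hW
  let 𝒰 := Z.affineCover
  let 𝒱 := Scheme.Pullback.openCoverOfLeft 𝒰 g (Spec.map b)
  have key : (pullback.fst g (Spec.map b)).base '' W =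
      ⋃ j, (𝒰.f j).base '' ((pullback.fst (𝒰.f j ≫ g) (Spec.map b)).base '' ((𝒱.f j).base ⁻¹' W)) := by
    have hcomm : ∀ j w, (𝒰.f j).base ((pullback.fst (𝒰.f j ≫ g) (Spec.map b)).base w) =
        (pullback.fst g (Spec.map b)).base ((𝒱.f j).base w) := by
      intro j w
      have h : pullback.fst (𝒰.f j ≫ g) (Spec.map b) ≫ 𝒰.f j = 𝒱.f j ≫ pullback.fst g (Spec.map b) := by
        simp [𝒱, Scheme.Pullback.openCoverOfLeft, pullback.lift_fst]
      exact congrArg (fun φ : _ ⟶ Z => φ.base w) h
    ext z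
    simp only [Set.mem_iUnion, Set.mem_image, Set.mem_preimage]
    constructor
    · rintro ⟨x, hx, rfl⟩
      obtain ⟨j, w, rfl⟩ := 𝒱.exists_eq x
      exact ⟨j, _, ⟨w, hx, rfl⟩, hcomm j w⟩
    · rintro ⟨j, _, ⟨w, hw, rfl⟩, rfl⟩
      exact ⟨_, hw, (hcomm j w).symm⟩
  rw [key]
  refine isOpen_iUnion fun j => (𝒰.f j).isOpenEmbedding.isOpenMap _ ?_
  exact isOpenMap_fst_of_affine' (𝒰.f j ≫ g) b _ ((𝒱.f j).base.hom.continuous.isOpen_preimage _ hW)

theorem universallyOpen_specMap {k : Type u} [Field k] {B : CommRingCat.{u}}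
    (g : Spec B ⟶ Spec (CommRingCat.of k)) : UniversallyOpen g := by
  obtain ⟨b, rfl⟩ := Spec.map_surjective g
  refine ⟨fun Z W q i₂ p h => ?_⟩
  have hp : p = h.isoPullback.hom ≫ pullback.fst _ _ := h.isoPullback_hom_fst.symm
  change IsOpenMap p.base
  rw [hp, Scheme.Hom.comp_base, TopCat.coe_comp]
  exact (isOpenMap_fst_of_affine_right b i₂).comp h.isoPullback.hom.homeomorph.isOpenMap

/-- A morphism from any scheme to the spectrum of a field is universally open. -/
theorem universallyOpen_of_field {k : Type u} [Field k] {X : Scheme.{u}}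
    (f : X ⟶ Spec (CommRingCat.of k)) : UniversallyOpen f := by
  refine IsZariskiLocalAtSource.of_openCover (P := @UniversallyOpen) X.affineCover fun i => ?_
  exact universallyOpen_specMap (X.affineCover.f i ≫ f)

instance (priority := 100) instUniversallyOpenOfField {k : Type u} [Field k] {X : Scheme.{u}}
    (f : X ⟶ Spec (CommRingCat.of k)) : UniversallyOpen f :=
  universallyOpen_of_field f

end Groth.Agent.VarGeom
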